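import Groth.Agent.L05.Point.BaseChange
import Groth.Agent.L07.RationalSmooth
import Groth.Agent.L03.GeomRegular
import Groth.Agent.S0565
import Groth.Prelude.Def_Found
import Mathlib.RingTheory.Jacobson.Ring
import Mathlib.RingTheory.Smooth.Fiber
import Mathlib.RingTheory.RingHom.Flat

/-!
# Smoothness over a field and geometric regularity; descent of smoothness along flat maps
-/

set_option autoImplicit false
set_option linter.style.haveILetI false
set_option maxSynthPendingDepth 3

universe u

open TensorProduct

namespace Groth.L05.Smooth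

attribute [local instance] Algebra.TensorProduct.rightAlgebra

/-- An algebra over a field is smooth at a prime if it becomes regular at a rational point over it. -/
theorem isSmoothAt_of_regular_point (k S K : Type u) [Field k] [CommRing S] [Algebra k S]
    [Algebra.FiniteType k S] [Field K] [Algebra k K] (q : Ideal S) [q.IsPrime] (χ : S →ₐ[k] K)
    (hq : RingHom.ker χ = q)
    (h : ∀ (z : Ideal (K ⊗[k] S)) [z.IsPrime],
      z.comap (Algebra.TensorProduct.includeRight : S →ₐ[k] K ⊗[k] S).toRingHom = q →
      (∃ χ' : K ⊗[k] S →ₐ[K] K, z = RingHom.ker χ' ∧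
        (χ'.restrictScalars k).comp Algebra.TensorProduct.includeRight = χ) →
      IsRegularLocalRing (Localization.AtPrime z)) :
    Algebra.IsSmoothAt k q := by
  haveI : Algebra.FinitePresentation k S := Algebra.FinitePresentation.of_finiteType.mp ‹_›
  let χ' : K ⊗[k] S →ₐ[K] K :=
    Algebra.TensorProduct.lift (Algebra.ofId K K) χ fun _ _ => Commute.all _ _
  have hχ : (χ'.restrictScalars k).comp Algebra.TensorProduct.includeRight = χ :=
    AlgHom.ext fun s => by simp [χ']
  let z : Ideal (K ⊗[k] S) := RingHom.ker χ'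
  haveI : z.IsPrime := RingHom.ker_isPrime χ'
  have hz : z.comap (Algebra.TensorProduct.includeRight : S →ₐ[k] K ⊗[k] S).toRingHom = q := by
    rw [← hq, ← hχ]; rfl
  haveI := h z hz ⟨χ', rfl, hχ⟩
  have hmem : (⟨z, inferInstance⟩ : PrimeSpectrum (K ⊗[k] S)) ∈ Algebra.smoothLocus K (K ⊗[k] S) :=
    Groth.L07.RationalSmooth.isSmoothAt_of_regular z χ' rfl
  have h2 := Groth.L05.Point.isSmoothAt_of_baseChange (P := k) (P' := K) (C := S) _ hmem
  have e : PrimeSpectrum.comap (Algebra.TensorProduct.includeRight : S →ₐ[k] K ⊗[k] S).toRingHom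
      ⟨z, inferInstance⟩ = ⟨q, ‹_›⟩ := PrimeSpectrum.ext hz
  rw [e] at h2
  exact h2

/-- Geometrically regular algebras of finite type over a field are smooth. -/
theorem smooth_of_geometricallyRegular (k S : Type u) [Field k] [CommRing S] [Algebra k S]
    [Algebra.FiniteType k S] (h : CAlg.IsGeometricallyRegular k S) : Algebra.Smooth k S := by
  haveI : Algebra.FinitePresentation k S := Algebra.FinitePresentation.of_finiteType.mp ‹_›
  refine ⟨Algebra.smoothLocus_eq_univ_iff.1 (Set.eq_univ_of_forall fun p => ?_), inferInstance⟩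
  obtain ⟨m, hm, hpm⟩ := Ideal.exists_le_maximal p.asIdeal p.2.ne_top
  letI := Ideal.Quotient.field m
  haveI : Module.Finite k (S ⧸ m) := finite_of_finite_type_of_isJacobsonRing k (S ⧸ m)
  haveI := h (S ⧸ m) inferInstance
  have hmem : (⟨m, hm.isPrime⟩ : PrimeSpectrum S) ∈ Algebra.smoothLocus k S :=
    isSmoothAt_of_regular_point k S (S ⧸ m) m (Ideal.Quotient.mkₐ k m) (Ideal.Quotient.mkₐ_ker k m)
      fun z _ _ _ => IsRegularRing.isRegularLocalRing_localization z
  exact ((PrimeSpectrum.le_iff_specializes p ⟨m, hm.isPrime⟩).1 hpm).mem_open Algebra.isOpen_smoothLocus hmem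

/-- Smooth algebras over a field are geometrically regular. -/
theorem geometricallyRegular_of_smooth (k S : Type u) [Field k] [CommRing S] [Algebra k S]
    [Algebra.Smooth k S] : CAlg.IsGeometricallyRegular k S := fun k' _ _ _ =>
  Groth.L03.GeomRegular.isRegularRing_of_smooth k' (k' ⊗[k] S)

theorem smooth_iff_geometricallyRegular (k S : Type u) [Field k] [CommRing S] [Algebra k S]
    [Algebra.FiniteType k S] : Algebra.Smooth k S ↔ CAlg.IsGeometricallyRegular k S :=
  ⟨fun _ => geometricallyRegular_of_smooth k S, smooth_of_geometricallyRegular k S⟩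

/-- Over a field, smoothness descends along flat maps. -/
theorem isSmoothAt_under_of_flat (k A B : Type u) [Field k] [CommRing A] [CommRing B] [Algebra k A]
    [Algebra k B] [Algebra A B] [IsScalarTower k A B] [Algebra.FiniteType k A] [Module.Flat A B]
    [Algebra.Smooth k B] (q : Ideal B) [q.IsPrime] : Algebra.IsSmoothAt k (q.under A) := by
  let K := q.ResidueField
  let ψ : B →ₐ[k] K := IsScalarTower.toAlgHom k B K
  let χ : A →ₐ[k] K := ψ.comp (IsScalarTower.toAlgHom k A B)
  have hker : RingHom.ker χ = q.under A := by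
    ext a
    show algebraMap B K (algebraMap A B a) = 0 ↔ algebraMap A B a ∈ q
    rw [Ideal.algebraMap_residueField_eq_zero]
  refine isSmoothAt_of_regular_point k A K (q.under A) χ hker fun z _ _ hzχ => ?_
  obtain ⟨χ', rfl, hχ'⟩ := hzχ
  let φ : K ⊗[k] A →ₐ[K] K ⊗[k] B :=
    Algebra.TensorProduct.map (AlgHom.id K K) (IsScalarTower.toAlgHom k A B)
  let ψ' : K ⊗[k] B →ₐ[K] K := Algebra.TensorProduct.lift (Algebra.ofId K K) ψ fun _ _ => Commute.all _ _
  have hcomp : ψ'.comp φ = χ' := Algebra.TensorProduct.ext (by ext)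
    (AlgHom.ext fun a => by
      have := AlgHom.congr_fun hχ' a
      simp only [AlgHom.coe_comp, AlgHom.coe_restrictScalars', Function.comp_apply,
        Algebra.TensorProduct.includeRight_apply] at this ⊢
      rw [this]
      simp [ψ', φ, χ])
  let w : Ideal (K ⊗[k] B) := RingHom.ker ψ'
  haveI : w.IsPrime := RingHom.ker_isPrime ψ'
  haveI hreg : IsRegularRing (K ⊗[k] B) := Groth.L03.GeomRegular.isRegularRing_of_smooth K _
  have hf : (IsScalarTower.toAlgHom k A B).Flat := RingHom.flat_algebraMap_iff.mpr ‹_›
  have hflat : φ.toRingHom.Flat :=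
    RingHom.Flat.tensorProductMap (RingHom.Flat.of_bijective Function.bijective_id) hf
  have hzw : RingHom.ker χ' = w.comap φ.toRingHom := by rw [← hcomp]; rfl
  haveI : Algebra.FiniteType K (K ⊗[k] A) := inferInstance
  haveI : IsNoetherianRing (K ⊗[k] A) := Algebra.FiniteType.isNoetherianRing K _
  let g := Localization.localRingHom (RingHom.ker χ') w φ.toRingHom hzw
  letI : Algebra (Localization.AtPrime (RingHom.ker χ')) (Localization.AtPrime w) := g.toAlgebra
  haveI : IsLocalHom (algebraMap (Localization.AtPrime (RingHom.ker χ')) (Localization.AtPrime w)) :=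
    Localization.isLocalHom_localRingHom _ _ _ _
  haveI : Module.Flat (Localization.AtPrime (RingHom.ker χ')) (Localization.AtPrime w) :=
    RingHom.Flat.localRingHom hflat _ _ hzw
  exact Groth.Agent.S0565.result (Localization.AtPrime (RingHom.ker χ')) (Localization.AtPrime w)

end Groth.L05.Smooth
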